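import Cfsg.Agent.Lib.Helper7.GlS3.Defs
import Cfsg.Agent.Lib.Helper9.PPrimeCoreOf

/-! S4302 farm (helper7), piece QC1. -/

set_option autoImplicit false

namespace Cfsg.Agent.Lib.Helper98.GlS3

open Subgroup Cfsg.Agent.Lib.Helper7.GlS3 Cfsg.Agent.Lib.Helper48
open Cfsg.Agent.Lib.Helper22 (conjS mem_conjS conjS_mem conjS_eq_of_mem_normalizer)

theorem QC1_centralizer_conjS {G : Type*} [Group G] (g : G) (B : Subgroup G) :
    centralizer (conjS g B : Set G) = conjS g (centralizer (B : Set G)) := by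
  ext x
  rw [mem_conjS, mem_centralizer_iff, mem_centralizer_iff]
  constructor
  · intro h b hb
    have := h (g * b * g⁻¹) (conjS_mem hb)
    calc b * (g⁻¹ * x * g) = g⁻¹ * (g * b * g⁻¹ * x) * g := by group
      _ = g⁻¹ * (x * (g * b * g⁻¹)) * g := by rw [this]
      _ = _ := by group
  · intro h y hy
    have hy' := mem_conjS.1 hy
    have := h _ hy'
    calc y * x = g * ((g⁻¹ * y * g) * (g⁻¹ * x * g)) * g⁻¹ := by group
      _ = g * ((g⁻¹ * x * g) * (g⁻¹ * y * g)) * g⁻¹ := by rw [this]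
      _ = x * y := by group

theorem QC1_card_conjS {G : Type*} [Group G] (g : G) (B : Subgroup G) :
    Nat.card (conjS g B) = Nat.card B :=
  Subgroup.card_map_of_injective (MulAut.conj g).injective

theorem QC1_card_fix {G : Type*} [Group G] {V : Subgroup G} {m : G}
    (hm : m ∈ normalizer (V : Set G)) (B : Subgroup G) :
    Nat.card ↥(V ⊓ centralizer (conjS m B : Set G)) = Nat.card ↥(V ⊓ centralizer (B : Set G)) := by
  have : V ⊓ centralizer (conjS m B : Set G) = conjS m (V ⊓ centralizer (B : Set G)) := by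
    rw [conjS_inf, conjS_eq_of_mem_normalizer hm, QC1_centralizer_conjS]
  rw [this, QC1_card_conjS]

theorem QC1_conj_conj_inv {G : Type*} [Group G] (m : G) (B : Subgroup G) :
    conjS m (conjS m⁻¹ B) = B := by
  ext x
  rw [mem_conjS, mem_conjS]
  have : m⁻¹⁻¹ * (m⁻¹ * x * m) * m⁻¹ = x := by group
  rw [this]

/-- conjugates of best offenders by elements normalising `V` are best offenders -/
theorem QC1_bo_conj {G : Type*} [Group G] (p : ℕ) {V A : Subgroup G} {m : G}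
    (hm : m ∈ normalizer (V : Set G)) (hA : Cfsg.IsBestOffenderOn p V A) :
    Cfsg.IsBestOffenderOn p V (conjS m A) := by
  obtain ⟨h1, h2, h3⟩ := hA
  have hcV : conjS m (centralizer (V : Set G)) = centralizer (V : Set G) := by
    rw [← QC1_centralizer_conjS, conjS_eq_of_mem_normalizer hm]
  refine ⟨?_, ?_, ?_⟩
  · intro B' hB'
    have hB : conjS m⁻¹ B' ≤ A := by
      rw [conjS_le_iff, inv_inv]; exact hB'
    have := h1 _ hB
    have e1 : Nat.card B' = Nat.card (conjS m⁻¹ B') := (QC1_card_conjS _ _).symm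
    have e2 : Nat.card ↥(V ⊓ centralizer (B' : Set G)) =
        Nat.card ↥(V ⊓ centralizer (conjS m⁻¹ B' : Set G)) := by
      conv_lhs => rw [← QC1_conj_conj_inv m B']
      exact QC1_card_fix hm _
    rw [e1, e2, QC1_card_conjS m A, QC1_card_fix hm A]
    exact this
  · have : ⁅conjS m A, conjS m A⁆ = conjS m ⁅A, A⁆ := (map_commutator _ _ _).symm
    rw [this, ← hcV]
    exact conjS_mono m h2
  · rintro _ ⟨a, ha, rfl⟩
    rw [← map_pow, ← hcV]
    exact ⟨a ^ p, h3 a ha, rfl⟩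

theorem BO_hyps {G : Type*} [Group G] [Finite G] {V M : Subgroup G} (h : Amb V M) :
    BO V M ≤ M ∧ BO V M ≤ normalizer (V : Set G) ∧ BO V M ⊓ centralizer (V : Set G) = ⊥ ∧
    centralizer (Cfsg.pPrimeCore 2 ↥(BO V M) : Set ↥(BO V M)) ≤ Cfsg.pPrimeCore 2 ↥(BO V M) ∧
    BO V M = (⨆ A : {A : Subgroup G // A ≤ BO V M ∧ Cfsg.IsBestOffenderOn 2 V A}, (A : Subgroup G)) ∧
    M ≤ normalizer (((Cfsg.pPrimeCore 2 ↥(BO V M)).map (BO V M).subtype : Subgroup G) : Set G) := by
  have : Fact (Nat.Prime 2) := ⟨Nat.prime_two⟩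
  obtain ⟨H, hH⟩ : ∃ H : Subgroup G, H = BO V M := ⟨_, rfl⟩
  rw [← hH]
  have hle : ∀ A : Subgroup G, A ≤ M → Cfsg.IsBestOffenderOn 2 V A → A ≤ H := by
    intro A hAM hA
    rw [hH]
    exact le_iSup (fun A' : {A : Subgroup G // A ≤ M ∧ Cfsg.IsBestOffenderOn 2 V A} =>
      (A' : Subgroup G)) ⟨A, hAM, hA⟩
  have hHM : H ≤ M := by
    rw [hH]; exact iSup_le (fun A => A.2.1)
  have hMH : M ≤ normalizer (H : Set G) := by
    rw [le_normalizer_iff]
    intro m hm k hk
    have h1 : conjS m H ≤ H := by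
      rw [hH, BO, conjS, Subgroup.map_iSup, ← BO, ← hH]
      apply iSup_le
      intro A
      apply hle
      · rintro _ ⟨a, ha, rfl⟩
        exact M.mul_mem (M.mul_mem hm (A.2.1 ha)) (M.inv_mem hm)
      · exact QC1_bo_conj 2 (h.hMV hm) A.2.2
    exact h1 (conjS_mem hk)
  have hcore : Cfsg.pCore 2 ↥H = ⊥ := by
    have hOle : Cfsg.pCoreOf 2 H ≤ M := (Cfsg.Agent.Lib.Helper49.pCoreOf_le 2 H).trans hHM
    have hn : M ≤ normalizer (Cfsg.pCoreOf 2 H : Set G) :=
      hMH.trans (Cfsg.Agent.Lib.Helper49.normalizer_le_normalizer_pCoreOf 2 H)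
    have hnorm : ((Cfsg.pCoreOf 2 H).subgroupOf M).Normal := by
      refine ⟨fun x hx m => ?_⟩
      rw [mem_subgroupOf] at hx ⊢
      exact le_normalizer_iff.1 hn m m.2 x hx
    have hp : IsPGroup 2 ((Cfsg.pCoreOf 2 H).subgroupOf M) :=
      (Cfsg.Agent.Lib.Helper49.pCoreOf_isPGroup 2 H).comap_of_injective M.subtype M.subtype_injective
    have h1 := Cfsg.Agent.Lib.Lead.le_pCore hnorm hp
    rw [h.hO, le_bot_iff, subgroupOf_eq_bot, disjoint_iff, inf_eq_left.2 hOle] at h1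
    exact (map_eq_bot_iff_of_injective _ H.subtype_injective).mp h1
  have hsol : Cfsg.IsPSolvable 2 ↥H := by
    have h1 : Cfsg.IsPSolvable 2 ↥(H.subgroupOf M) :=
      Cfsg.Agent.Lib.Helper69.isPSolvable_subgroup _ h.hsol
    exact Cfsg.Agent.Lib.Helper69.isPSolvable_of_surj (subgroupOfEquivOfLe hHM).toMonoidHom
      (subgroupOfEquivOfLe hHM).surjective h1
  refine ⟨hHM, hHM.trans h.hMV, ?_, centralizer_pPrimeCore_le hsol hcore, ?_, ?_⟩
  · rw [eq_bot_iff, ← h.hf]
    exact inf_le_inf_right _ hHM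
  · apply le_antisymm
    · conv_lhs => rw [hH, BO]
      apply iSup_le
      intro A
      exact le_iSup (fun A' : {A : Subgroup G // A ≤ H ∧ Cfsg.IsBestOffenderOn 2 V A} =>
        (A' : Subgroup G)) ⟨A.1, hle A.1 A.2.1 A.2.2, A.2.2⟩
    · exact iSup_le (fun A => A.2.1)
  · exact hMH.trans (Cfsg.Agent.Lib.Helper9.normalizer_le_normalizer_pPrimeCoreOf H)

end Cfsg.Agent.Lib.Helper98.GlS3
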