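import Cfsg.Agent.Lib.Helper7.GlS3.Defs
import Cfsg.Agent.Lib.Helper74.GlS3.XO
import Cfsg.Agent.Lib.Helper10.Card

/-! S4302 farm (helper7), piece XD. -/

set_option autoImplicit false

namespace Cfsg.Agent.Lib.Helper98.GlS3

open Subgroup Cfsg.Agent.Lib.Helper7.GlS3 Cfsg.Agent.Lib.Helper48

theorem maxProd_AAll {X : Type*} [Group X] [Finite X] [Group.IsSolvable X]
    (hF : Cfsg.fittingSubgroup X = Cfsg.pCore 2 X) (A : Subgroup X) (hA : A ∈ AAll X) :
    MaxProd (VV 2 X) A ∧ IsMulCommutative A ∧ IsPGroup 2 A := by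
  have : Fact (Nat.Prime 2) := ⟨Nat.prime_two⟩
  obtain ⟨T, A', ⟨hA'c, hA'max⟩, hAeq⟩ := hA
  have hsep : Cfsg.IsPSolvable 2 X :=
    Cfsg.Agent.Lib.Helper11.isPSolvable_of_isSolvable 2 inferInstance
  have hO := Cfsg.Agent.Lib.Helper74.GlS3.pPrimeCore_eq_bot hF
  obtain ⟨hV, -⟩ := VV_facts hsep hO
  have hVp : IsPGroup 2 (VV 2 X) := by
    rintro ⟨v, hv⟩
    exact ⟨1, Subtype.ext (by simpa using hV.2 v hv)⟩
  have hVT : VV 2 X ≤ T :=
    (Cfsg.Agent.Lib.Lead.le_pCore inferInstance hVp).trans (Cfsg.Agent.Lib.Lead.pCore_le_sylow T)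
  have hVcomm : ∀ a ∈ VV 2 X, ∀ b ∈ VV 2 X, a * b = b * a := by
    intro a ha b hb
    exact congrArg Subtype.val (hV.1.is_comm.comm ⟨a, ha⟩ ⟨b, hb⟩)
  have hAT : A ≤ T := by rw [hAeq]; exact map_subtype_le _
  have hAcomm : ∀ a ∈ A, ∀ b ∈ A, a * b = b * a := by
    rw [hAeq]
    rintro _ ⟨a, ha, rfl⟩ _ ⟨b, hb, rfl⟩
    have := congrArg Subtype.val (hA'c.is_comm.comm ⟨a, ha⟩ ⟨b, hb⟩)
    exact congrArg Subtype.val this
  have hcardA : Nat.card A = Nat.card A' := by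
    rw [hAeq]; exact Subgroup.card_map_of_injective (subtype_injective _)
  refine ⟨?_, ⟨⟨fun x y => Subtype.ext (hAcomm x x.2 y y.2)⟩⟩, T.2.to_le hAT⟩
  intro B hB
  obtain ⟨C, hC⟩ : ∃ C : Subgroup X, C = VV 2 X ⊓ centralizer (B : Set X) := ⟨_, rfl⟩
  rw [← hC]
  have hCV : C ≤ VV 2 X := hC ▸ inf_le_left
  have hCB : C ≤ centralizer (B : Set X) := hC ▸ inf_le_right
  have hBCT : B ⊔ C ≤ T := sup_le (hB.trans hAT) (hCV.trans hVT)
  have hBB : B ≤ centralizer (B : Set X) := by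
    intro x hx
    rw [mem_centralizer_iff]
    intro y hy
    exact hAcomm y (hB hy) x (hB hx)
  have hCC : C ≤ centralizer (C : Set X) := by
    intro x hx
    rw [mem_centralizer_iff]
    intro y hy
    exact hVcomm y (hCV hy) x (hCV hx)
  have hself : B ⊔ C ≤ centralizer ((B ⊔ C : Subgroup X) : Set X) := by
    apply sup_le
    · rw [le_centralizer_iff]
      exact sup_le hBB hCB
    · rw [le_centralizer_iff]
      exact sup_le (le_centralizer_iff.1 hCB) hCC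
  have hcomm : IsMulCommutative ((B ⊔ C).subgroupOf (T : Subgroup X)) := by
    refine ⟨⟨fun x y => ?_⟩⟩
    apply Subtype.ext
    apply Subtype.ext
    have hx : ((x : (T : Subgroup X)) : X) ∈ B ⊔ C := x.2
    have hy : ((y : (T : Subgroup X)) : X) ∈ B ⊔ C := y.2
    exact mem_centralizer_iff.1 (hself hy) _ hx
  have h2 : Nat.card (B ⊔ C : Subgroup X) ≤ Nat.card A := by
    rw [hcardA, ← Nat.card_congr (subgroupOfEquivOfLe hBCT).toEquiv]
    exact hA'max _ hcomm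
  have h3 : B ⊓ C ≤ VV 2 X ⊓ centralizer (A : Set X) := by
    intro x hx
    refine mem_inf.mpr ⟨hCV hx.2, ?_⟩
    rw [mem_centralizer_iff]
    intro a ha
    exact hAcomm a ha x (hB hx.1)
  have h4 : Nat.card (B ⊓ C : Subgroup X) ≤ Nat.card (VV 2 X ⊓ centralizer (A : Set X) : Subgroup X) :=
    Subgroup.card_le_of_le h3
  calc Nat.card B * Nat.card C ≤ Nat.card (B ⊔ C : Subgroup X) * Nat.card (B ⊓ C : Subgroup X) :=
        Cfsg.Agent.Lib.Helper10.card_mul_card_le B C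
    _ ≤ Nat.card A * Nat.card (VV 2 X ⊓ centralizer (A : Set X) : Subgroup X) := Nat.mul_le_mul h2 h4

end Cfsg.Agent.Lib.Helper98.GlS3
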