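import Cfsg.Agent.Lib.Helper7.GlS3.Defs
import Cfsg.Agent.Lib.Helper53.PGroup

/-! S4302 farm (helper7), piece QE. -/

set_option autoImplicit false

namespace Cfsg.Agent.Lib.Helper98.GlS3

open Subgroup Cfsg.Agent.Lib.Helper7.GlS3 Cfsg.Agent.Lib.Helper48

theorem peel {G : Type*} [Group G] [Finite G] (V A W : Subgroup G) (t : G)
    (hV : Cfsg.IsElementaryAbelian 2 V) (hAV : A ≤ normalizer (V : Set G))
    (hab : IsMulCommutative A) (hA2 : IsPGroup 2 A) (hmax : MaxProd V A) (ht : t ∈ A)
    (hWV : W ≤ V) (hW4 : Nat.card W = 4) (htW : t ∉ centralizer (W : Set G))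
    (hAW : A ≤ normalizer (W : Set G)) :
    MaxProd V (A ⊓ centralizer (W : Set G)) ∧
      ∀ a ∈ A, a ∈ centralizer (W : Set G) ∨ a * t ∈ centralizer (W : Set G) := by
  classical
  have : Fact (Nat.Prime 2) := ⟨Nat.prime_two⟩
  obtain ⟨hVc, hVe⟩ := hV
  have hsq : ∀ x ∈ W, x * x = 1 := fun x hx => by
    have := hVe x (hWV hx)
    rwa [pow_two] at this
  have hW2 : IsPGroup 2 W := IsPGroup.of_card (n := 2) (by rw [hW4]; norm_num)
  obtain ⟨w, hwW, hw1, hwA⟩ : ∃ w ∈ W, w ≠ 1 ∧ ∀ a ∈ A, a * w * a⁻¹ = w := by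
    have hT : IsPGroup 2 (W ⊔ A : Subgroup G) := hW2.to_sup_of_normal_left' hA2 hAW
    have hTN : (W ⊔ A : Subgroup G) ≤ normalizer (W : Set G) := sup_le le_normalizer hAW
    have : (W.subgroupOf (W ⊔ A)).Normal :=
      (Subgroup.normal_subgroupOf_iff_le_normalizer le_sup_left).2 hTN
    have hne : W.subgroupOf (W ⊔ A) ≠ ⊥ := by
      intro h
      rw [Subgroup.subgroupOf_eq_bot, disjoint_iff, inf_eq_left.2 le_sup_left] at h
      rw [h] at hW4
      simp at hW4
    obtain ⟨z, hzN, hzc, hz1⟩ := Cfsg.Agent.Lib.Helper53.exists_mem_center_of_normal hT _ hne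
    refine ⟨z, hzN, fun h => hz1 (Subtype.ext h), fun a ha => ?_⟩
    have h1 := Subgroup.mem_center_iff.1 hzc ⟨a, le_sup_right (a := W) ha⟩
    have h2 : a * (z : G) = z * a := congrArg Subtype.val h1
    rw [h2, mul_inv_cancel_right]
  obtain ⟨u, huW, hut⟩ : ∃ u ∈ W, t * u * t⁻¹ ≠ u := by
    by_contra hno
    push Not at hno
    apply htW
    rw [Subgroup.mem_centralizer_iff]
    intro x hx
    exact (mul_inv_eq_iff_eq_mul.1 (hno x hx)).symm
  have hu1 : u ≠ 1 := by
    rintro rfl
    simp at hut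
  have huw : u ≠ w := by
    rintro rfl
    exact hut (hwA t ht)
  have huw1 : u * w ≠ 1 := by
    intro h
    apply huw
    calc u = u * (w * w) := by rw [hsq w hwW, mul_one]
      _ = w := by rw [← mul_assoc, h, one_mul]
  have henum : ∀ x ∈ W, x = 1 ∨ x = w ∨ x = u ∨ x = u * w := by
    have hS : (({1, w, u, u * w} : Finset G) : Set G) = W := by
      apply Set.eq_of_subset_of_ncard_le
      · intro x hx
        simp only [Finset.coe_insert, Finset.coe_singleton, Set.mem_insert_iff,
          Set.mem_singleton_iff] at hx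
        rcases hx with rfl | rfl | rfl | rfl
        exacts [W.one_mem, hwW, huW, W.mul_mem huW hwW]
      · rw [Set.ncard_coe_finset]
        have h4 : (W : Set G).ncard = 4 := by rw [← hW4]; exact (Nat.card_coe_set_eq _).symm
        rw [h4, Finset.card_insert_of_notMem, Finset.card_insert_of_notMem,
          Finset.card_insert_of_notMem, Finset.card_singleton]
        · simp [hw1]
        · simp [Ne.symm huw, hu1]
        · simp [Ne.symm hw1, Ne.symm hu1, Ne.symm huw1]
      · exact Set.toFinite _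
    intro x hx
    have hx' : x ∈ (({1, w, u, u * w} : Finset G) : Set G) := hS ▸ hx
    simpa using hx'
  have hconjW : ∀ a ∈ A, ∀ x ∈ W, a * x * a⁻¹ ∈ W := fun a ha x hx =>
    ((Subgroup.mem_normalizer_iff.1 (hAW ha)) x).1 hx
  have hF5 : ∀ a ∈ A, a * u * a⁻¹ = u ∨ a * u * a⁻¹ = u * w := by
    intro a ha
    rcases henum _ (hconjW a ha u huW) with h | h | h | h
    · exfalso
      apply hu1
      simpa using h
    · exfalso
      apply huw
      have := h.trans (hwA a ha).symm
      simpa using this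
    · exact Or.inl h
    · exact Or.inr h
  have hF6 : ∀ a ∈ A, a * u * a⁻¹ = u → a ∈ centralizer (W : Set G) := by
    intro a ha hau
    rw [Subgroup.mem_centralizer_iff]
    intro x hx
    have hx' : a * x * a⁻¹ = x := by
      rcases henum x hx with rfl | rfl | rfl | rfl
      · simp
      · exact hwA a ha
      · exact hau
      · rw [show a * (u * w) * a⁻¹ = (a * u * a⁻¹) * (a * w * a⁻¹) by group, hau, hwA a ha]
    exact (mul_inv_eq_iff_eq_mul.1 hx').symm
  have hsecond : ∀ a ∈ A, a ∈ centralizer (W : Set G) ∨ a * t ∈ centralizer (W : Set G) := by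
    intro a ha
    rcases hF5 a ha with h | h
    · exact Or.inl (hF6 a ha h)
    · right
      apply hF6 _ (A.mul_mem ha ht)
      have htu : t * u * t⁻¹ = u * w := (hF5 t ht).resolve_left hut
      rw [show a * t * u * (a * t)⁻¹ = a * (t * u * t⁻¹) * a⁻¹ by group, htu,
        show a * (u * w) * a⁻¹ = (a * u * a⁻¹) * (a * w * a⁻¹) by group, h, hwA a ha, mul_assoc,
        hsq w hwW, mul_one]
  refine ⟨?_, hsecond⟩
  set D := A ⊓ centralizer (W : Set G) with hD
  intro B hB
  have h1 := hmax B (hB.trans inf_le_left)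
  have hcardA : Nat.card A ≤ 2 * Nat.card D := by
    have hsub : (A : Set G) ⊆ (D : Set G) ∪ (fun x => x * t⁻¹) '' (D : Set G) := by
      intro a ha
      rcases hsecond a ha with h | h
      · exact Or.inl ⟨ha, h⟩
      · exact Or.inr ⟨a * t, ⟨A.mul_mem ha ht, h⟩, by simp⟩
    calc Nat.card A = (A : Set G).ncard := Nat.card_coe_set_eq _
      _ ≤ ((D : Set G) ∪ (fun x => x * t⁻¹) '' (D : Set G)).ncard :=
          Set.ncard_le_ncard hsub (Set.toFinite _)
      _ ≤ (D : Set G).ncard + ((fun x => x * t⁻¹) '' (D : Set G)).ncard := Set.ncard_union_le _ _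
      _ ≤ (D : Set G).ncard + (D : Set G).ncard :=
          Nat.add_le_add_left (Set.ncard_image_le (Set.toFinite _)) _
      _ = 2 * Nat.card D := by rw [two_mul]; rfl
  have hcardC : 2 * Nat.card ↥(V ⊓ centralizer (A : Set G))
      ≤ Nat.card ↥(V ⊓ centralizer (D : Set G)) := by
    have hle : V ⊓ centralizer (A : Set G) ≤ V ⊓ centralizer (D : Set G) :=
      inf_le_inf_left _ (Subgroup.centralizer_le inf_le_left)
    have hu_in : u ∈ V ⊓ centralizer (D : Set G) := by
      refine Subgroup.mem_inf.2 ⟨hWV huW, ?_⟩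
      rw [Subgroup.mem_centralizer_iff]
      intro d hd
      exact ((Subgroup.mem_centralizer_iff.1 hd.2) u huW).symm
    have hu_out : u ∉ V ⊓ centralizer (A : Set G) := by
      intro h
      apply hut
      have := (Subgroup.mem_centralizer_iff.1 h.2) t ht
      rw [this, mul_inv_cancel_right]
    obtain ⟨m, hm⟩ := Subgroup.card_dvd_of_le hle
    have hpos : 0 < Nat.card ↥(V ⊓ centralizer (D : Set G)) := Nat.card_pos
    have hm2 : 2 ≤ m := by
      by_contra hlt
      have hm01 : m = 0 ∨ m = 1 := by omega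
      rcases hm01 with rfl | rfl
      · omega
      · have : V ⊓ centralizer (A : Set G) = V ⊓ centralizer (D : Set G) :=
          Subgroup.eq_of_le_of_card_ge hle (by omega)
        exact hu_out (this ▸ hu_in)
    rw [hm]
    nlinarith
  calc Nat.card B * Nat.card ↥(V ⊓ centralizer (B : Set G))
      ≤ Nat.card A * Nat.card ↥(V ⊓ centralizer (A : Set G)) := h1
    _ ≤ (2 * Nat.card D) * Nat.card ↥(V ⊓ centralizer (A : Set G)) :=
        Nat.mul_le_mul_right _ hcardA
    _ = Nat.card D * (2 * Nat.card ↥(V ⊓ centralizer (A : Set G))) := by ring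
    _ ≤ Nat.card D * Nat.card ↥(V ⊓ centralizer (D : Set G)) := Nat.mul_le_mul_left _ hcardC

end Cfsg.Agent.Lib.Helper98.GlS3
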